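import Groth.Prelude.Def_Coh
import Groth.Prelude.Def_CurvBase
import Groth.Agent.Lib.Snapper.Chi
import Groth.Agent.Lib.CohDelta.Flasque
import Groth.Agent.Lib.Curves.GlobalSections

/-!
# The positive-degree part of the Euler characteristic

`cp k X M d = ∑_{i < d} (-1)^(i+1) h^(i+1)(X, M)`, its behaviour in short exact sequences whose
degree-zero groups may be infinite dimensional, and the comparison of global sections along a
direct image.
-/

set_option autoImplicit false
universe u

open CategoryTheory CategoryTheory.Limits AlgebraicGeometry TopologicalSpace Opposite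

namespace Groth.Agent.H21.LerayEuler

open Groth.Agent.Lib.Curves.LES Groth.Agent.Lib.Curves.Euler Groth.Agent.Lib.Snapper

variable (k : Type u) [Field k] (X : Scheme.{u}) [X.Over (Spec (CommRingCat.of k))]

/-- `∑_{i < d} (-1)^(i+1) h^(i+1)(X, M)`. -/
noncomputable def cp (M : X.Modules) (d : ℕ) : ℤ :=
  ∑ i ∈ Finset.range d, (-1 : ℤ) ^ (i + 1) * (Module.finrank k (Coh.HH X M (i + 1)) : ℤ)

/-- Finite dimensional cohomology in positive degrees. -/
def FinPos (M : X.Modules) : Prop := ∀ n : ℕ, Module.Finite k (Coh.HH X M (n + 1))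

variable {k X}

theorem euler_eq_cp [NoetherianSpace X] {d : ℕ} (hd : topologicalKrullDim X ≤ d) (M : X.Modules) :
    Curv2.euler k X M = (Module.finrank k (Coh.HH X M 0) : ℤ) + cp k X M d := by
  rw [Chi.euler_eq_eulerCharLE hd, FGA.eulerCharLE, Finset.sum_range_succ']
  simp only [cp, pow_zero, one_mul]
  ring

theorem cp_eq_zero {M : X.Modules} (h : ∀ n : ℕ, Subsingleton (Coh.HH X M (n + 1))) (d : ℕ) :
    cp k X M d = 0 :=
  Finset.sum_eq_zero fun i _ => by
    haveI := h i
    rw [Module.finrank_zero_of_subsingleton (R := k), Nat.cast_zero, mul_zero]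

theorem cp_succ [NoetherianSpace X] {d : ℕ} (hd : topologicalKrullDim X ≤ d) (M : X.Modules) :
    cp k X M (d + 1) = cp k X M d := by
  haveI := Chi.subsingleton_HH_of_lt hd M (Nat.lt_succ_self d)
  rw [cp, cp, Finset.sum_range_succ, Module.finrank_zero_of_subsingleton (R := k), Nat.cast_zero,
    mul_zero, add_zero]

variable {S : ShortComplex X.Modules} (hS : S.ShortExact)

include hS in
/-- Finiteness of the middle term. -/
theorem finPos_middle (h₁ : FinPos k X S.X₁) (h₃ : FinPos k X S.X₃) : FinPos k X S.X₂ := by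
  intro n
  haveI := h₁ n
  haveI := h₃ n
  haveI : Module.Finite k (LinearMap.range (mapK k S.f (n + 1))) := Module.Finite.range _
  haveI : Module.Finite k (Coh.HH X S.X₂ (n + 1) ⧸ LinearMap.range (mapK k S.f (n + 1))) := by
    rw [← LinearMap.exact_iff.1 (exactK₂ k hS (n + 1))]
    haveI : Module.Finite k (LinearMap.range (mapK k S.g (n + 1))) :=
      Module.Finite.of_injective (LinearMap.range (mapK k S.g (n + 1))).subtype Subtype.val_injective
    exact Module.Finite.equiv (mapK k S.g (n + 1)).quotKerEquivRange.symm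
  exact Module.Finite.of_submodule_quotient (LinearMap.range (mapK k S.f (n + 1)))

/-- With acyclic middle term the connecting maps are bijective in positive degrees. -/
theorem δK_bijective (hI : ∀ n : ℕ, Subsingleton (Coh.HH X S.X₂ (n + 1))) (n : ℕ) :
    Function.Bijective (δK k hS (n + 1) (n + 1 + 1) rfl) := by
  haveI := hI n
  haveI := hI (n + 1)
  constructor
  · rw [← LinearMap.ker_eq_bot, LinearMap.exact_iff.1 (exactK₃ k hS (n + 1) (n + 1 + 1) rfl),
      LinearMap.range_eq_bot]
    exact LinearMap.ext fun x => by rw [Subsingleton.elim x 0, map_zero, map_zero]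
  · intro y
    exact (exactK₁ k hS (n + 1) (n + 1 + 1) rfl y).1 (Subsingleton.elim _ _)

theorem δK_zero_surjective (hI : ∀ n : ℕ, Subsingleton (Coh.HH X S.X₂ (n + 1))) :
    Function.Surjective (δK k hS 0 (0 + 1) rfl) := fun y =>
  haveI := hI 0
  (exactK₁ k hS 0 (0 + 1) rfl y).1 (Subsingleton.elim _ _)

include hS in
theorem cp_shift [NoetherianSpace X] (hI : ∀ n : ℕ, Subsingleton (Coh.HH X S.X₂ (n + 1)))
    {d : ℕ} (hd : topologicalKrullDim X ≤ d) :
    cp k X S.X₁ d = -(Module.finrank k (Coh.HH X S.X₁ 1) : ℤ) - cp k X S.X₃ d := by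
  have h := fun n => (LinearEquiv.ofBijective (δK k hS (n + 1) (n + 1 + 1) rfl)
    (δK_bijective hS hI n)).finrank_eq
  rw [← cp_succ hd S.X₁, cp, Finset.sum_range_succ', cp]
  simp only [h, zero_add, pow_one, pow_succ' _ (_ + 1)]
  simp only [neg_one_mul, neg_mul, Finset.sum_neg_distrib]
  ring

include hS in
theorem finPos_shift (hI : ∀ n : ℕ, Subsingleton (Coh.HH X S.X₂ (n + 1)))
    (h₁ : FinPos k X S.X₁) : FinPos k X S.X₃ := fun n =>
  haveI := h₁ (n + 1)
  Module.Finite.equiv (LinearEquiv.ofBijective (δK k hS (n + 1) (n + 1 + 1) rfl)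
    (δK_bijective hS hI n)).symm

include hS in
/-- The rank of `H⁰(X₂) → H⁰(X₃)` when `H⁰(X₃)` is finite dimensional. -/
theorem finrank_range_g [NoetherianSpace X] {d : ℕ} (hd : topologicalKrullDim X ≤ d)
    (h₁ : FinPos k X S.X₁) (h₂ : FinPos k X S.X₂) (h₃ : FinPos k X S.X₃)
    [Module.Finite k (Coh.HH X S.X₃ 0)] :
    (Module.finrank k (LinearMap.range (mapK k S.g 0)) : ℤ) =
      Curv2.euler k X S.X₃ + cp k X S.X₁ d - cp k X S.X₂ d := by
  haveI := h₁
  haveI := h₂
  haveI := h₃
  haveI : ∀ n, Module.Finite k (Coh.HH X S.X₁ (n + 1)) := h₁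
  haveI : ∀ n, Module.Finite k (Coh.HH X S.X₂ (n + 1)) := h₂
  haveI : ∀ n, Module.Finite k (Coh.HH X S.X₃ (n + 1)) := h₃
  let a : ℕ → ℤ := fun i => Module.finrank k (Coh.HH X S.X₁ i)
  let b : ℕ → ℤ := fun i => Module.finrank k (Coh.HH X S.X₂ i)
  let c : ℕ → ℤ := fun i => Module.finrank k (Coh.HH X S.X₃ i)
  let δ : ℕ → ℤ := fun i => Module.finrank k (LinearMap.range (δK k hS i (i + 1) rfl))
  have key : ∀ n : ℕ, ∑ i ∈ Finset.range n, (-1 : ℤ) ^ (i + 1) * (b (i + 1) - a (i + 1) - c (i + 1)) =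
      δ 0 - (-1 : ℤ) ^ n * δ n := by
    intro n
    induction n with
    | zero => simp
    | succ n ih =>
      rw [Finset.sum_range_succ, ih]
      have e₀ := finrank_range_add_finrank_range (exactK₁ k hS n (n + 1) rfl)
      have e₁ := finrank_range_add_finrank_range (exactK₂ k hS (n + 1))
      have e₂ := finrank_range_add_finrank_range (exactK₃ k hS (n + 1) (n + 1 + 1) rfl)
      have e : b (n + 1) - a (n + 1) - c (n + 1) = -δ n - δ (n + 1) := by
        simp only [a, b, c, δ]; omega
      rw [e, pow_succ]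
      ring
  have hlast : δ d = 0 := by
    haveI := Chi.subsingleton_HH_of_lt hd S.X₁ (Nat.lt_succ_self d)
    simp only [δ, Nat.cast_eq_zero]
    exact Nat.le_zero.1 ((Submodule.finrank_le _).trans_eq Module.finrank_zero_of_subsingleton)
  have e := finrank_range_add_finrank_range (exactK₃ k hS 0 (0 + 1) rfl)
  have := key d
  rw [hlast, mul_zero, sub_zero] at this
  simp only [mul_sub, Finset.sum_sub_distrib, a, b, c, δ] at this
  rw [euler_eq_cp hd, cp, cp, cp]
  omega

section Push

variable {Y : Scheme.{u}} [Y.Over (Spec (CommRingCat.of k))] (f : Y ⟶ X)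
  (hf : f ≫ (X ↘ Spec (CommRingCat.of k)) = Y ↘ Spec (CommRingCat.of k))

omit hS S

open Groth.Agent.Lib.Curves.GlobalSections

/-- `H⁰(X, f_* M) = H⁰(Y, M)`, linearly over `k`. -/
noncomputable def pushH0 (M : Y.Modules) :
    Coh.HH X ((Coh.push f).obj M) 0 ≃ₗ[k] Coh.HH Y M 0 :=
  let e : Coh.HH X ((Coh.push f).obj M) 0 ≃+ Coh.HH Y M 0 :=
    (h0Equiv ((Coh.push f).obj M)).trans (h0Equiv M).symm
  { e with
    map_smul' := fun a z => by
      apply (h0Equiv M).injective
      show h0Equiv M ((h0Equiv M).symm (h0Equiv ((Coh.push f).obj M) (a • z))) =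
        h0Equiv M (Coh.toGlobal (Y ↘ Spec (CommRingCat.of k)) a •
          (h0Equiv M).symm (h0Equiv ((Coh.push f).obj M) z))
      rw [AddEquiv.apply_symm_apply, h0Equiv_smul M, AddEquiv.apply_symm_apply]
      refine (h0Equiv_smul ((Coh.push f).obj M) (Coh.toGlobal (X ↘ Spec (CommRingCat.of k)) a) z).trans ?_
      rw [← hf]
      rfl }

theorem pushH0_natural {M N : Y.Modules} (φ : M ⟶ N) (z : Coh.HH X ((Coh.push f).obj M) 0) :
    pushH0 f hf N (mapK k ((Coh.push f).map φ) 0 z) = mapK k φ 0 (pushH0 f hf M z) := by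
  apply (h0Equiv N).injective
  show h0Equiv N ((h0Equiv N).symm _) = _
  rw [AddEquiv.apply_symm_apply]
  refine Eq.trans ?_ (Sheaf.H.equiv₀_naturality (f := toAbMap φ) (isTerminalTop (α := Opens Y))
    (pushH0 f hf M z))
  refine (Sheaf.H.equiv₀_naturality (f := toAbMap ((Coh.push f).map φ))
    (isTerminalTop (α := Opens X)) z).symm.trans ?_
  exact congrArg ((toAbMap φ).hom.app (op ⊤))
    ((h0Equiv M).apply_symm_apply (h0Equiv ((Coh.push f).obj M) z)).symm

end Push

end Groth.Agent.H21.LerayEuler
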