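import Groth.Agent.H21.LerayEuler.Step
import Groth.Agent.Lib.Snapper.Finite
import Groth.Agent.H97.FinDim
import Groth.Agent.S0031
import Groth.Agent.S0036

/-!
# `χ(Y, G) = ∑ (-1)^i χ(X, R^i f_* G)`
-/

set_option autoImplicit false
set_option maxHeartbeats 1000000
universe u

open CategoryTheory CategoryTheory.Limits AlgebraicGeometry TopologicalSpace Opposite

namespace Groth.Agent.H21.LerayEuler

open Groth.Agent.Lib Groth.Agent.Lib.Curves.LES

variable {k : Type u} [Field k] {X Y : Scheme.{u}}
  [X.Over (Spec (CommRingCat.of k))] [Y.Over (Spec (CommRingCat.of k))] (f : Y ⟶ X)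
  (hf : f ≫ (X ↘ Spec (CommRingCat.of k)) = Y ↘ Spec (CommRingCat.of k))
  [HasInjectiveResolutions Y.Modules]

include hf in
/-- Acyclicity of the direct image when everything in positive degree vanishes. -/
theorem acyclic_push : ∀ (n : ℕ) (G : Y.Modules),
    (∀ i : ℕ, IsZero ((Coh.Rpush f (i + 1)).obj G)) →
    (∀ i : ℕ, Subsingleton (Coh.HH Y G (i + 1))) →
    Subsingleton (Coh.HH X ((Coh.push f).obj G) (n + 1)) := by
  intro n
  induction n with
  | zero =>
    intro G _ hY
    haveI := hY 0
    obtain ⟨h, hfin⟩ := finrank_H1 (k := k) f G hf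
    haveI := hfin
    rw [Module.finrank_zero_of_subsingleton (R := k)] at h
    have h0 : Module.finrank k (Coh.HH X ((Coh.push f).obj G) 1) = 0 := by omega
    exact Module.finrank_zero_iff.1 h0
  | succ n ih =>
    intro G hR hY
    obtain ⟨e⟩ := nonempty_R1_iso f G
    have hC : IsZero (right f G).X₃ := (hR 0).of_iso e.symm
    haveI : Mono (right f G).f := (right_shortExact f G).mono_f
    haveI : Epi (right f G).f := (right_shortExact f G).exact.epi_f (hC.eq_of_tgt _ _)
    haveI : IsIso (right f G).f := isIso_of_mono_of_epi _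
    have hQR : ∀ i : ℕ, IsZero ((Coh.Rpush f (i + 1)).obj (shift G).X₃) := fun i => by
      obtain ⟨e'⟩ := nonempty_R_shift_iso f G i
      exact (hR (i + 1)).of_iso e'
    have hQY : ∀ i : ℕ, Subsingleton (Coh.HH Y (shift G).X₃ (i + 1)) := fun i => by
      haveI : Subsingleton (Coh.HH Y (shift G).X₁ (i + 1 + 1)) := hY (i + 1)
      exact (δK_bijective (k := k) (shift_shortExact G) (acyclic_shift_middle G) i).1.subsingleton
    haveI : Subsingleton (Coh.HH X (right f G).X₂ (n + 1)) := ih (shift G).X₃ hQR hQY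
    haveI : Subsingleton (Coh.HH X (left f G).X₃ (n + 1)) :=
      (isoK k (asIso (right f G).f) (n + 1)).toEquiv.subsingleton
    exact (δK_bijective (k := k) (left_shortExact f G) (acyclic_left_middle f G) n).2.subsingleton

variable (k) in
/-- `∑_{i < m} (-1)^(i+1) χ(X, R^(i+1) f_* G)`. -/
noncomputable def tail (G : Y.Modules) (m : ℕ) : ℤ :=
  ∑ i ∈ Finset.range m, (-1 : ℤ) ^ (i + 1) * Curv2.euler k X ((Coh.Rpush f (i + 1)).obj G)

include hf in
theorem cp_eq_tail [NoetherianSpace X] [NoetherianSpace Y] {d : ℕ}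
    (hdX : topologicalKrullDim X ≤ d) (hdY : topologicalKrullDim Y ≤ d)
    (hcoh : Snapper.Chi.CohFinite k X) : ∀ (m : ℕ) (G : Y.Modules),
    FinPos k Y G → FinPos k X ((Coh.push f).obj G) →
    (∀ i : ℕ, Coh.IsCoh ((Coh.Rpush f (i + 1)).obj G)) →
    (∀ i : ℕ, m ≤ i → IsZero ((Coh.Rpush f (i + 1)).obj G)) →
    (∀ i : ℕ, m ≤ i → Subsingleton (Coh.HH Y G (i + 1))) →
    cp k Y G d = cp k X ((Coh.push f).obj G) d + tail k f G m := by
  intro m
  induction m with
  | zero =>
    intro G _ _ _ hR hY
    rw [cp_eq_zero (fun n => hY n (Nat.zero_le n)),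
      cp_eq_zero (fun n => acyclic_push f hf n G (fun i => hR i (Nat.zero_le i))
        (fun i => hY i (Nat.zero_le i))), tail, Finset.sum_range_zero, add_zero]
  | succ m ih =>
    intro G hGY hGX hG hR hY
    haveI := hGY 0
    obtain ⟨h1, -⟩ := finrank_H1 (k := k) f G hf
    obtain ⟨e⟩ := nonempty_R1_iso f G
    have hCfin : ∀ i, Module.Finite k (Coh.HH X (right f G).X₃ i) := fun i => by
      haveI := hcoh _ (hG 0) i
      exact Module.Finite.equiv (isoK k e i)
    have hBfin : FinPos k X (right f G).X₁ :=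
      finPos_shift (S := left f G) (left_shortExact f G) (acyclic_left_middle f G) hGX
    have hQX : FinPos k X (right f G).X₂ :=
      finPos_middle (S := right f G) (right_shortExact f G) hBfin (fun n => hCfin (n + 1))
    have hQY : FinPos k Y (shift G).X₃ :=
      finPos_shift (S := shift G) (shift_shortExact G) (acyclic_shift_middle G) hGY
    have hQR : ∀ i : ℕ, Coh.IsCoh ((Coh.Rpush f (i + 1)).obj (shift G).X₃) := fun i => by
      obtain ⟨e'⟩ := nonempty_R_shift_iso f G i
      exact Groth.Agent.Lib.CohBasics.Closure.isCoh_of_iso e'.symm (hG (i + 1))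
    have hQ := ih (shift G).X₃ hQY hQX hQR
      (fun i hi => by
        obtain ⟨e'⟩ := nonempty_R_shift_iso f G i
        exact (hR (i + 1) (Nat.succ_le_succ hi)).of_iso e')
      (fun i hi => by
        haveI : Subsingleton (Coh.HH Y (shift G).X₁ (i + 1 + 1)) := hY (i + 1) (Nat.succ_le_succ hi)
        exact (δK_bijective (k := k) (shift_shortExact G) (acyclic_shift_middle G)
          i).1.subsingleton)
    have hYG : cp k Y G d = -(Module.finrank k (Coh.HH Y G 1) : ℤ) - cp k Y (shift G).X₃ d :=
      cp_shift (S := shift G) (shift_shortExact G) (acyclic_shift_middle G) hdY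
    have hXG : cp k X ((Coh.push f).obj G) d =
        -(Module.finrank k (Coh.HH X ((Coh.push f).obj G) 1) : ℤ) -
          cp k X (right f G).X₁ d :=
      cp_shift (S := left f G) (left_shortExact f G) (acyclic_left_middle f G) hdX
    haveI := hCfin 0
    have him : (Module.finrank k (LinearMap.range (mapK k (right f G).g 0)) : ℤ) =
        Curv2.euler k X ((Coh.Rpush f 1).obj G) + cp k X (right f G).X₁ d -
          cp k X ((Coh.push f).obj (shift G).X₃) d := by
      rw [Groth.Agent.Lib.Curves.Euler.euler_eq_of_iso e]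
      exact finrank_range_g (S := right f G) (right_shortExact f G) hdX hBfin hQX
        (fun n => hCfin (n + 1))
    have htail : tail k f G (m + 1) =
        -Curv2.euler k X ((Coh.Rpush f 1).obj G) - tail k f (shift G).X₃ m := by
      have he : ∀ i : ℕ, Curv2.euler k X ((Coh.Rpush f (i + 1 + 1)).obj G) =
          Curv2.euler k X ((Coh.Rpush f (i + 1)).obj (shift G).X₃) := fun i => by
        obtain ⟨e'⟩ := nonempty_R_shift_iso f G i
        exact Groth.Agent.Lib.Curves.Euler.euler_eq_of_iso e'.symm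
      simp only [tail, Finset.sum_range_succ', he, pow_succ' _ (_ + 1), neg_one_mul, neg_mul,
        Finset.sum_neg_distrib, zero_add, pow_one]
      ring
    rw [hYG, hXG, htail, hQ, h1]
    push_cast
    rw [him]
    ring

include hf in
theorem euler_eq_finsum [IsProper (X ↘ Spec (CommRingCat.of k))]
    [IsProper (Y ↘ Spec (CommRingCat.of k))] (G : Y.Modules) (hG : Coh.IsCoh G) :
    Curv2.euler k Y G =
      ∑ᶠ i : ℕ, (-1 : ℤ) ^ i * Curv2.euler k X ((Coh.Rpush f i).obj G) := by
  haveI := Curves.GlobalSections.noetherianSpace_of_proper k X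
  haveI := Curves.GlobalSections.noetherianSpace_of_proper k Y
  haveI := Curves.GlobalSections.isNoetherian_of_proper k X
  haveI : IsProper (f ≫ (X ↘ Spec (CommRingCat.of k))) := by rw [hf]; infer_instance
  haveI : IsProper f := IsProper.of_comp f (X ↘ Spec (CommRingCat.of k))
  obtain ⟨a, ha⟩ := H97.FinDim.exists_dim_le (X ↘ Spec (CommRingCat.of k))
  obtain ⟨b, hb⟩ := H97.FinDim.exists_dim_le (Y ↘ Spec (CommRingCat.of k))
  obtain ⟨c, hc⟩ := Groth.Agent.S0031.result f
  let d := a + b + c
  have hdX : topologicalKrullDim X ≤ (d : ℕ) := ha.trans (Nat.cast_le.2 (by omega))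
  have hdY : topologicalKrullDim Y ≤ (d : ℕ) := hb.trans (Nat.cast_le.2 (by omega))
  have hR : ∀ i : ℕ, d ≤ i → IsZero ((Coh.Rpush f (i + 1)).obj G) := fun i hi => by
    obtain ⟨e₁⟩ := CohDelta.Syzygy.nonempty_rightDerived_iso (injectiveResolution G) f i
    obtain ⟨e₂⟩ := CohDelta.AbR.nonempty_rpushAb_iso f (injectiveResolution G) i
    refine IsZero.of_iso ?_ e₁
    rw [IsZero.iff_id_eq_zero]
    apply (SheafOfModules.toSheaf X.ringCatSheaf).map_injective
    exact ((hc G hG.1 (i + 1) (by omega)).of_iso e₂.symm).eq_of_src _ _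
  haveI := preservesFiniteLimits_push f
  let e0 : (Coh.Rpush f 0).obj G ≅ (Coh.push f).obj G :=
    (Coh.push f).rightDerivedZeroIsoSelf.app G
  have hfG : Coh.IsCoh ((Coh.push f).obj G) :=
    Groth.Agent.Lib.CohBasics.Closure.isCoh_of_iso e0 (Groth.Agent.S0036.result f G hG 0)
  have key := cp_eq_tail (k := k) f hf hdX hdY (Snapper.Finite.cohFinite k X) d G
    (fun n => Snapper.Finite.cohFinite k Y G hG (n + 1))
    (fun n => Snapper.Finite.cohFinite k X _ hfG (n + 1))
    (fun i => Groth.Agent.S0036.result f G hG (i + 1)) hR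
    (fun i hi => Snapper.Chi.subsingleton_HH_of_lt hdY G (by omega))
  rw [finsum_eq_sum_of_support_subset _ (s := Finset.range (d + 1)) ?_, Finset.sum_range_succ',
    pow_zero, one_mul, Groth.Agent.Lib.Curves.Euler.euler_eq_of_iso e0, euler_eq_cp hdX,
    euler_eq_cp hdY, key, (pushH0 (k := k) f hf G).finrank_eq]
  · simp only [tail]
    ring
  · intro i hi
    by_contra hc'
    simp only [Finset.coe_range, Set.mem_Iio, not_lt] at hc'
    obtain ⟨j, rfl⟩ : ∃ j, i = j + 1 := ⟨i - 1, by omega⟩
    have hz := hR j (by omega)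
    have : Curv2.euler k X ((Coh.Rpush f (j + 1)).obj G) = 0 := by
      unfold Curv2.euler
      refine finsum_eq_zero_of_forall_eq_zero fun n => ?_
      haveI := subsingleton_HH_isZero (k := k) hz n
      rw [Module.finrank_zero_of_subsingleton (R := k), Nat.cast_zero, mul_zero]
    exact hi (by simp only [this, mul_zero])

end Groth.Agent.H21.LerayEuler
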