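import Groth.Agent.H21.LerayEuler.Basic
import Groth.Agent.Lib.CohDelta.RAcyc
import Groth.Agent.Lib.CohDelta.AbR
import Groth.Agent.Lib.DerivedOX.Grothendieck
import Mathlib.Algebra.Homology.ShortComplex.ExactFunctor

/-!
# Euler characteristics and higher direct images: the dimension shift
-/

set_option autoImplicit false
set_option maxHeartbeats 1000000
universe u

open CategoryTheory CategoryTheory.Limits AlgebraicGeometry TopologicalSpace Opposite

namespace Groth.Agent.H21.LerayEuler

open Groth.Agent.Lib Groth.Agent.Lib.Curves.LES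

variable {k : Type u} [Field k] {X Y : Scheme.{u}}

theorem preservesFiniteLimits_push (f : Y ⟶ X) : PreservesFiniteLimits (Coh.push f) := by
  haveI : PreservesLimitsOfSize.{0, 0} (Scheme.Modules.pushforward f) :=
    (Scheme.Modules.pullbackPushforwardAdjunction f).rightAdjoint_preservesLimits
  exact PreservesLimitsOfSize.preservesFiniteLimits _

theorem subsingleton_HH_injective (I : Y.Modules) [Injective I] (n : ℕ) :
    Subsingleton (Coh.HH Y I (n + 1)) := by
  haveI := CohDelta.Flasque.isFlasque_toAb I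
  exact ZarCoh.Basic.H_flasque (Coh.toAb I) n

theorem subsingleton_HH_push_injective (f : Y ⟶ X) (I : Y.Modules) [Injective I] (n : ℕ) :
    Subsingleton (Coh.HH X ((Coh.push f).obj I) (n + 1)) := by
  haveI := CohDelta.Flasque.isFlasque_toAb I
  haveI : TopCat.Sheaf.IsFlasque (Coh.toAb ((Coh.push f).obj I)) :=
    TopCat.Sheaf.IsFlasque.pushforward_isFlasque (Coh.toAb I) f.base
  exact ZarCoh.Basic.H_flasque (Coh.toAb ((Coh.push f).obj I)) n

theorem subsingleton_HH_isZero [X.Over (Spec (CommRingCat.of k))] {M : X.Modules} (h : IsZero M)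
    (n : ℕ) : Subsingleton (Coh.HH X M n) := by
  refine subsingleton_of_forall_eq 0 fun x => ?_
  have h1 : mapK k (𝟙 M) n x = x := by rw [mapK_id]; rfl
  have h2 : mapK k (0 : M ⟶ M) n x = 0 := by
    show Sheaf.H.map (toAbMap (0 : M ⟶ M)) n x = 0
    rw [toAbMap, Functor.map_zero]
    show Abelian.Ext.comp x (Abelian.Ext.mk₀ 0) (add_zero n) = 0
    rw [Abelian.Ext.mk₀_zero, Abelian.Ext.comp_zero]
  rw [← h1, h.eq_of_src (𝟙 M) 0, h2]

variable (f : Y ⟶ X) (G : Y.Modules)

/-- The chosen embedding into an injective, with its cokernel. -/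
noncomputable def shift : ShortComplex Y.Modules :=
  ShortComplex.mk (Injective.ι G) (cokernel.π (Injective.ι G)) (cokernel.condition _)

theorem shift_shortExact : (shift G).ShortExact where
  exact := ShortComplex.exact_of_g_is_cokernel _ (cokernelIsCokernel (Injective.ι G))
  mono_f := inferInstanceAs (Mono (Injective.ι G))
  epi_g := inferInstanceAs (Epi (cokernel.π (Injective.ι G)))

/-- `f_* I → f_* Q`. -/
noncomputable abbrev phi : (Coh.push f).obj (shift G).X₂ ⟶ (Coh.push f).obj (shift G).X₃ :=
  (Coh.push f).map (shift G).g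

/-- `0 → f_* G → f_* I → B → 0`. -/
noncomputable def left : ShortComplex X.Modules :=
  ShortComplex.mk ((Coh.push f).map (shift G).f) (Abelian.factorThruImage (phi f G)) (by
    rw [← cancel_mono (Abelian.image.ι (phi f G)), Category.assoc, Abelian.image.fac, zero_comp,
      phi, ← Functor.map_comp, (shift G).zero, Functor.map_zero])

/-- `0 → B → f_* Q → C → 0`. -/
noncomputable def right : ShortComplex X.Modules :=
  ShortComplex.mk (Abelian.image.ι (phi f G)) (cokernel.π (phi f G)) (kernel.condition _)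

theorem left_shortExact : (left f G).ShortExact := by
  have hP : PreservesFiniteLimits (Coh.push f) := preservesFiniteLimits_push f
  have h := (List.TFAE.out (Functor.preservesFiniteLimits_tfae (Coh.push f)) 3 0 rfl rfl).1 hP
    (shift G) (shift_shortExact G)
  haveI : Mono (left f G).f := h.2
  haveI : Epi (left f G).g := inferInstanceAs (Epi (Abelian.factorThruImage (phi f G)))
  refine { exact := ?_ }
  let ψ : left f G ⟶ (shift G).map (Coh.push f) :=
    { τ₁ := 𝟙 _
      τ₂ := 𝟙 _
      τ₃ := Abelian.image.ι (phi f G)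
      comm₁₂ := (Category.id_comp _).trans (Category.comp_id _).symm
      comm₂₃ := (Category.id_comp _).trans (Abelian.image.fac (phi f G)).symm }
  haveI : Epi ψ.τ₁ := inferInstanceAs (Epi (𝟙 _))
  haveI : IsIso ψ.τ₂ := inferInstanceAs (IsIso (𝟙 _))
  haveI : Mono ψ.τ₃ := inferInstanceAs (Mono (Abelian.image.ι (phi f G)))
  exact (ShortComplex.exact_iff_of_epi_of_isIso_of_mono ψ).2 h.1

theorem right_shortExact : (right f G).ShortExact where
  exact := ShortComplex.exact_of_f_is_kernel _ (kernelIsKernel (cokernel.π (phi f G)))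
  mono_f := inferInstanceAs (Mono (Abelian.image.ι (phi f G)))
  epi_g := inferInstanceAs (Epi (cokernel.π (phi f G)))

variable [HasInjectiveResolutions Y.Modules]

theorem nonempty_R1_iso : Nonempty ((Coh.Rpush f 1).obj G ≅ (right f G).X₃) := by
  haveI := preservesFiniteLimits_push f
  exact CohDelta.RAcyc.nonempty_one_iso (Coh.push f) (shift_shortExact G)
    ((Coh.push f).isZero_rightDerived_obj_injective_succ 0 (Injective.under G))

theorem nonempty_R_shift_iso (i : ℕ) :
    Nonempty ((Coh.Rpush f (i + 1)).obj (shift G).X₃ ≅ (Coh.Rpush f (i + 1 + 1)).obj G) := by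
  haveI := preservesFiniteLimits_push f
  exact CohDelta.RAcyc.nonempty_shift_iso (Coh.push f) (shift_shortExact G)
    (fun q => (Coh.push f).isZero_rightDerived_obj_injective_succ q (Injective.under G)) i

omit [HasInjectiveResolutions Y.Modules]

variable [X.Over (Spec (CommRingCat.of k))] [Y.Over (Spec (CommRingCat.of k))]
  (hf : f ≫ (X ↘ Spec (CommRingCat.of k)) = Y ↘ Spec (CommRingCat.of k))

theorem acyclic_shift_middle (n : ℕ) : Subsingleton (Coh.HH Y (shift G).X₂ (n + 1)) :=
  haveI : Injective (shift G).X₂ := inferInstanceAs (Injective (Injective.under G))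
  subsingleton_HH_injective _ n

theorem acyclic_left_middle (n : ℕ) : Subsingleton (Coh.HH X (left f G).X₂ (n + 1)) :=
  haveI : Injective (shift G).X₂ := inferInstanceAs (Injective (Injective.under G))
  subsingleton_HH_push_injective f (shift G).X₂ n

include hf in
/-- `H¹(X, f_*G) ⊆ H¹(Y, G)` with quotient the image of `H⁰(f_*Q)` in `H⁰(R¹f_*G)`. -/
theorem finrank_H1 [Module.Finite k (Coh.HH Y G 1)] :
    Module.finrank k (Coh.HH Y G 1) = Module.finrank k (Coh.HH X ((Coh.push f).obj G) 1) +
        Module.finrank k (LinearMap.range (mapK k (right f G).g 0)) ∧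
      Module.Finite k (Coh.HH X ((Coh.push f).obj G) 1) := by
  let δY := δK k (shift_shortExact G) 0 (0 + 1) rfl
  let E := fun M : Y.Modules => pushH0 (k := k) f hf M
  let ψ : Coh.HH X (right f G).X₂ 0 →ₗ[k] Coh.HH Y G 1 := δY.comp (E (shift G).X₃).toLinearMap
  let δX := δK k (left_shortExact f G) 0 (0 + 1) rfl
  let p0 := mapK k (left f G).g 0
  let i0 : Coh.HH X (left f G).X₃ 0 →ₗ[k] Coh.HH X (right f G).X₂ 0 := mapK k (right f G).f 0
  let q0 := mapK k (right f G).g 0
  have hψs : Function.Surjective ψ :=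
    (δK_zero_surjective (k := k) (shift_shortExact G) (acyclic_shift_middle G)).comp (E _).surjective
  have hδXs : Function.Surjective δX :=
    δK_zero_surjective (k := k) (left_shortExact f G) (acyclic_left_middle f G)
  have hφ : mapK k (phi f G) 0 = i0.comp p0 := by
    have h : phi f G = (left f G).g ≫ (right f G).f := (Abelian.image.fac (phi f G)).symm
    rw [h]
    exact mapK_comp k _ _ 0
  have hi0 : Function.Injective i0 := by
    haveI : Mono (right f G).f := (right_shortExact f G).mono_f
    exact mapK_injective_of_mono k (right f G).f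
  have hψker : ∀ z, ψ z = 0 ↔ ∃ w, i0 (p0 w) = z := fun z => by
    refine ((exactK₃ k (shift_shortExact G) 0 (0 + 1) rfl (E _ z)).trans ⟨?_, ?_⟩)
    · rintro ⟨w, hw⟩
      refine ⟨(E _).symm w, (E (shift G).X₃).injective ?_⟩
      rw [← hw]
      refine (congrArg (E (shift G).X₃) (LinearMap.congr_fun hφ _).symm).trans ?_
      exact (pushH0_natural f hf (shift G).g _).trans
        (congrArg (mapK k (shift G).g 0) ((E (shift G).X₂).apply_symm_apply w))
    · rintro ⟨w, rfl⟩
      exact ⟨E _ w, ((congrArg (E (shift G).X₃) (LinearMap.congr_fun hφ w).symm).trans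
        (pushH0_natural f hf (shift G).g w)).symm⟩
  let β : Coh.HH X (left f G).X₃ 0 →ₗ[k] Coh.HH Y G 1 := ψ.comp i0
  have hβ : LinearMap.ker β = LinearMap.ker δX := by
    ext b
    rw [LinearMap.mem_ker, LinearMap.mem_ker]
    refine (hψker (i0 b)).trans (Iff.trans ?_
      (exactK₃ k (left_shortExact f G) 0 (0 + 1) rfl b).symm)
    exact ⟨fun ⟨w, hw⟩ => ⟨w, hi0 hw⟩, fun ⟨w, hw⟩ => ⟨w, congrArg i0 hw⟩⟩
  let eR : LinearMap.range β ≃ₗ[k] Coh.HH X ((Coh.push f).obj G) 1 :=
    β.quotKerEquivRange.symm ≪≫ₗ Submodule.quotEquivOfEq _ _ hβ ≪≫ₗ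
      δX.quotKerEquivOfSurjective hδXs
  let m := (LinearMap.range β).mkQ.comp ψ
  have hm : LinearMap.ker m = LinearMap.ker q0 := by
    ext z
    rw [LinearMap.mem_ker, LinearMap.mem_ker]
    refine Iff.trans ?_ (exactK₂ k (right_shortExact f G) 0 z).symm
    rw [show m z = (LinearMap.range β).mkQ (ψ z) from rfl, Submodule.mkQ_apply,
      Submodule.Quotient.mk_eq_zero]
    constructor
    · rintro ⟨b, hb⟩
      obtain ⟨w, hw⟩ := (hψker (z - i0 b)).1 (by rw [map_sub, sub_eq_zero]; exact hb.symm)
      exact ⟨p0 w + b, (i0.map_add (p0 w) b).trans (eq_sub_iff_add_eq.1 hw)⟩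
    · rintro ⟨b, rfl⟩
      exact ⟨b, rfl⟩
  have hms : Function.Surjective m := (Submodule.mkQ_surjective _).comp hψs
  let eQ : (Coh.HH Y G 1 ⧸ LinearMap.range β) ≃ₗ[k] LinearMap.range q0 :=
    (m.quotKerEquivOfSurjective hms).symm ≪≫ₗ Submodule.quotEquivOfEq _ _ hm ≪≫ₗ
      q0.quotKerEquivRange
  haveI : Module.Finite k (LinearMap.range β) :=
    Module.Finite.of_injective (LinearMap.range β).subtype Subtype.val_injective
  refine ⟨?_, Module.Finite.equiv eR⟩
  have := (LinearMap.range β).finrank_quotient_add_finrank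
  rw [eQ.finrank_eq, eR.finrank_eq] at this
  exact this.symm.trans (Nat.add_comm _ _)

end Groth.Agent.H21.LerayEuler
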